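import Mathlib.Topology.LocallyClosed
import Mathlib.Topology.Constructible
import Mathlib.Topology.JacobsonSpace
import Mathlib.Topology.NoetherianSpace
import Mathlib.Data.List.TFAE
import Mathlib.Tactic.TFAE

/-!
Quasi-homeomorphisms, very dense subsets and (locally) quasi-constructible sets.
-/

set_option autoImplicit false

open Set Topology TopologicalSpace

namespace Groth.Agent.QHomeo

universe u v

variable {X : Type u} {Y : Type v} [TopologicalSpace X] [TopologicalSpace Y]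

/-- finite union of locally closed sets -/
def QC (Z : Set X) : Prop :=
  ∃ T : Set (Set X), T.Finite ∧ (∀ t ∈ T, IsLocallyClosed t) ∧ Z = ⋃₀ T

/-- locally a finite union of locally closed sets -/
def LQC (Z : Set X) : Prop :=
  ∀ x : X, ∃ U : Set X, IsOpen U ∧ x ∈ U ∧ QC (U ∩ Z)

/-- very dense subset -/
def VDense (S : Set X) : Prop :=
  ∀ Z : Set X, IsLocallyClosed Z → Z.Nonempty → (Z ∩ S).Nonempty

/-- quasi-homeomorphism -/
def QHom (f : X → Y) : Prop := IsInducing f ∧ VDense (range f)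

lemma QC.of_lc {Z : Set X} (h : IsLocallyClosed Z) : QC Z :=
  ⟨{Z}, finite_singleton Z, by simpa, by simp⟩

lemma QC.empty : QC (∅ : Set X) := ⟨∅, finite_empty, by simp, by simp⟩

lemma QC.union {A B : Set X} (hA : QC A) (hB : QC B) : QC (A ∪ B) := by
  obtain ⟨S, hS, hS', rfl⟩ := hA
  obtain ⟨T, hT, hT', rfl⟩ := hB
  exact ⟨S ∪ T, hS.union hT, fun t ht => ht.elim (hS' t) (hT' t), sUnion_union S T |>.symm⟩

lemma QC.inter_lc {A B : Set X} (hA : QC A) (hB : IsLocallyClosed B) : QC (A ∩ B) := by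
  obtain ⟨S, hS, hS', rfl⟩ := hA
  refine ⟨(fun t => t ∩ B) '' S, hS.image _, ?_, ?_⟩
  · rintro _ ⟨t, ht, rfl⟩
    exact (hS' t ht).inter hB
  · rw [sUnion_image]
    ext x; simp only [mem_inter_iff, mem_sUnion, mem_iUnion, exists_prop]
    exact ⟨fun ⟨⟨t, ht, hxt⟩, hxB⟩ => ⟨t, ht, hxt, hxB⟩, fun ⟨t, ht, hxt, hxB⟩ => ⟨⟨t, ht, hxt⟩, hxB⟩⟩

lemma QC.induction {p : Set X → Prop} (h0 : p ∅)
    (hu : ∀ A B, QC A → IsLocallyClosed B → p A → p (B ∪ A))
    {A : Set X} (hA : QC A) : p A := by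
  obtain ⟨S, hS, hS', rfl⟩ := hA
  induction S, hS using Set.Finite.induction_on with
  | empty => simpa using h0
  | @insert a s ha hs ih =>
    rw [sUnion_insert]
    exact hu _ _ ⟨s, hs, fun t ht => hS' t (.inr ht), rfl⟩ (hS' a (.inl rfl))
      (ih fun t ht => hS' t (.inr ht))

lemma QC.inter {A B : Set X} (hA : QC A) (hB : QC B) : QC (A ∩ B) := by
  refine QC.induction (p := fun C => QC (A ∩ C)) (by simpa using QC.empty) ?_ hB
  intro C D _ hD h
  rw [inter_union_distrib_left]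
  exact (hA.inter_lc hD).union h

lemma QC.compl {A : Set X} (hA : QC A) : QC Aᶜ := by
  refine QC.induction (p := fun C => QC Cᶜ) ?_ ?_ hA
  · simpa using QC.of_lc (X := X) isOpen_univ.isLocallyClosed
  · intro C D _ hD h
    obtain ⟨U, F, hU, hF, rfl⟩ := hD
    rw [compl_union, compl_inter]
    exact ((QC.of_lc hU.isClosed_compl.isLocallyClosed).union
      (QC.of_lc hF.isOpen_compl.isLocallyClosed)).inter h

lemma QC.diff {A B : Set X} (hA : QC A) (hB : QC B) : QC (A \ B) := hA.inter hB.compl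

lemma QC.preimage {f : X → Y} (hf : Continuous f) {A : Set Y} (hA : QC A) : QC (f ⁻¹' A) := by
  obtain ⟨S, hS, hS', rfl⟩ := hA
  refine ⟨(fun t => f ⁻¹' t) '' S, hS.image _, ?_, ?_⟩
  · rintro _ ⟨t, ht, rfl⟩
    exact (hS' t ht).preimage hf
  · rw [sUnion_image, preimage_sUnion]

lemma QC.image {f : X → Y} (hf : IsInducing f) (hr : IsLocallyClosed (range f))
    {A : Set X} (hA : QC A) : QC (f '' A) := by
  refine QC.induction (p := fun C => QC (f '' C)) (by simpa using QC.empty) ?_ hA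
  intro C D _ hD h
  rw [image_union]
  exact (QC.of_lc (hD.image hf hr)).union h

lemma QC.of_isConstructible {A : Set X} (hA : IsConstructible A) : QC A := by
  induction hA using IsConstructible.empty_union_induction with
  | open_retrocompact U hU _ => exact QC.of_lc hU.isLocallyClosed
  | union s hs t ht hs' ht' => exact hs'.union ht'
  | compl s hs hs' => exact hs'.compl

lemma QC.lqc {A : Set X} (hA : QC A) : LQC A :=
  fun _ => ⟨univ, isOpen_univ, trivial, by simpa using hA⟩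

lemma LQC.of_lc {A : Set X} (hA : IsLocallyClosed A) : LQC A := (QC.of_lc hA).lqc

lemma LQC.inter {A B : Set X} (hA : LQC A) (hB : LQC B) : LQC (A ∩ B) := fun x => by
  obtain ⟨U, hU, hxU, hUA⟩ := hA x
  obtain ⟨V, hV, hxV, hVB⟩ := hB x
  refine ⟨U ∩ V, hU.inter hV, ⟨hxU, hxV⟩, ?_⟩
  rw [inter_inter_inter_comm]
  exact hUA.inter hVB

lemma LQC.compl {A : Set X} (hA : LQC A) : LQC Aᶜ := fun x => by
  obtain ⟨U, hU, hxU, hUA⟩ := hA x
  refine ⟨U, hU, hxU, ?_⟩
  have : U ∩ Aᶜ = U ∩ (U ∩ A)ᶜ := by ext; simp +contextual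
  rw [this]
  exact (QC.of_lc hU.isLocallyClosed).inter hUA.compl

lemma LQC.union {A B : Set X} (hA : LQC A) (hB : LQC B) : LQC (A ∪ B) := by
  simpa [compl_inter, compl_compl] using (hA.compl.inter hB.compl).compl

lemma LQC.diff {A B : Set X} (hA : LQC A) (hB : LQC B) : LQC (A \ B) := hA.inter hB.compl

lemma LQC.preimage {f : X → Y} (hf : Continuous f) {A : Set Y} (hA : LQC A) :
    LQC (f ⁻¹' A) := fun x => by
  obtain ⟨U, hU, hxU, hUA⟩ := hA (f x)
  exact ⟨f ⁻¹' U, hU.preimage hf, hxU, by simpa using hUA.preimage hf⟩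

lemma LQC.exists_lc {A : Set X} (hA : LQC A) {x : X} (hx : x ∈ A) :
    ∃ t, IsLocallyClosed t ∧ x ∈ t ∧ t ⊆ A := by
  obtain ⟨U, _, hxU, T, _, hT', h⟩ := hA x
  obtain ⟨t, ht, hxt⟩ := (h ▸ (⟨hxU, hx⟩ : x ∈ U ∩ A) : x ∈ ⋃₀ T)
  exact ⟨t, hT' t ht, hxt, fun y hy => ((Set.ext_iff.mp h y).mpr ⟨t, ht, hy⟩).2⟩

lemma LQC.subspace {A : Set X} (hA : LQC A) (x : X) :
    ∃ V : Set X, IsOpen V ∧ x ∈ V ∧ QC (Subtype.val ⁻¹' A : Set V) := by
  obtain ⟨U, hU, hxU, hUA⟩ := hA x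
  refine ⟨U, hU, hxU, ?_⟩
  have := hUA.preimage (f := (Subtype.val : U → X)) continuous_subtype_val
  simpa using this

lemma LQC.of_subspace {A : Set X}
    (h : ∀ x : X, ∃ V : Set X, IsOpen V ∧ x ∈ V ∧ QC (Subtype.val ⁻¹' A : Set V)) : LQC A := by
  intro x
  obtain ⟨V, hV, hxV, hVA⟩ := h x
  refine ⟨V, hV, hxV, ?_⟩
  simpa using hVA.image IsInducing.subtypeVal (by simpa using hV.isLocallyClosed)

lemma LQC.of_isLocallyConstructible {A : Set X} (h : IsLocallyConstructible A) : LQC A := by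
  refine LQC.of_subspace fun x => ?_
  obtain ⟨U, hxU, hU, hUA⟩ := h x
  exact ⟨U, hU, mem_of_mem_nhds hxU, QC.of_isConstructible hUA⟩

/-! ### very dense -/

lemma VDense.lqc {S : Set X} (hS : VDense S) {A : Set X} (hA : LQC A) (hne : A.Nonempty) :
    (A ∩ S).Nonempty := by
  obtain ⟨x, hx⟩ := hne
  obtain ⟨t, ht, hxt, htA⟩ := hA.exists_lc hx
  obtain ⟨y, hy, hyS⟩ := hS t ht ⟨x, hxt⟩
  exact ⟨y, htA hy, hyS⟩

lemma VDense.subset_of {S : Set X} (hS : VDense S) {A B : Set X} (hA : LQC A) (hB : LQC B)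
    (h : A ∩ S ⊆ B) : A ⊆ B := by
  intro x hxA
  by_contra hxB
  obtain ⟨y, ⟨hyA, hyB⟩, hyS⟩ := hS.lqc (hA.diff hB) ⟨x, hxA, hxB⟩
  exact hyB (h ⟨hyA, hyS⟩)

lemma VDense.inj {S : Set X} (hS : VDense S) {A B : Set X} (hA : LQC A) (hB : LQC B)
    (h : A ∩ S = B ∩ S) : A = B :=
  (hS.subset_of hA hB (h ▸ inter_subset_left)).antisymm
    (hS.subset_of hB hA (h.symm ▸ inter_subset_left))

lemma VDense.of_open_inj {S : Set X}
    (h : ∀ U V : Set X, IsOpen U → IsOpen V → U ∩ S = V ∩ S → U = V) : VDense S := by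
  rintro Z ⟨U, F, hU, hF, rfl⟩ ⟨x, hxU, hxF⟩
  by_contra hne
  rw [not_nonempty_iff_eq_empty] at hne
  have : U = U ∩ Fᶜ := h _ _ hU (hU.inter hF.isOpen_compl) (by
    ext y
    constructor
    · rintro ⟨hyU, hyS⟩
      exact ⟨⟨hyU, fun hyF => (Set.ext_iff.mp hne y).mp ⟨⟨hyU, hyF⟩, hyS⟩⟩, hyS⟩
    · rintro ⟨⟨hyU, _⟩, hyS⟩
      exact ⟨hyU, hyS⟩)
  exact ((Set.ext_iff.mp this x).mp hxU).2 hxF

/-! ### quasi-homeomorphisms -/

variable {f : X → Y}

lemma QHom.continuous (hf : QHom f) : Continuous f := hf.1.continuous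

lemma QHom.inj (hf : QHom f) {A B : Set Y} (hA : LQC A) (hB : LQC B)
    (h : f ⁻¹' A = f ⁻¹' B) : A = B := by
  refine hf.2.inj hA hB ?_
  rw [← image_preimage_eq_inter_range, ← image_preimage_eq_inter_range, h]

lemma QHom.subset_of (hf : QHom f) {A B : Set Y} (hA : LQC A) (hB : LQC B)
    (h : f ⁻¹' A ⊆ f ⁻¹' B) : A ⊆ B := by
  refine hf.2.subset_of hA hB ?_
  rintro _ ⟨hy, x, rfl⟩
  exact h hy

lemma QHom.of_bool (hinj : ∀ U₁ U₂ : Set Y, IsOpen U₁ → IsOpen U₂ → f ⁻¹' U₁ = f ⁻¹' U₂ → U₁ = U₂)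
    (hf : Continuous f) (hsurj : ∀ V : Set X, IsOpen V → ∃ U : Set Y, IsOpen U ∧ f ⁻¹' U = V) :
    QHom f := by
  constructor
  · constructor
    refine TopologicalSpace.ext_iff.mpr fun V => ⟨fun hV => ?_, ?_⟩
    · obtain ⟨U, hU, rfl⟩ := hsurj V hV
      exact ⟨U, hU, rfl⟩
    · rintro ⟨U, hU, rfl⟩
      exact hU.preimage hf
  · refine VDense.of_open_inj fun U V hU hV h => hinj U V hU hV ?_
    ext x
    exact ⟨fun hx => ((Set.ext_iff.mp h (f x)).mp ⟨hx, x, rfl⟩).1,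
      fun hx => ((Set.ext_iff.mp h (f x)).mpr ⟨hx, x, rfl⟩).1⟩

lemma QHom.open_inj (hf : QHom f) (U₁ U₂ : Set Y) (h₁ : IsOpen U₁) (h₂ : IsOpen U₂)
    (h : f ⁻¹' U₁ = f ⁻¹' U₂) : U₁ = U₂ :=
  hf.inj (LQC.of_lc h₁.isLocallyClosed) (LQC.of_lc h₂.isLocallyClosed) h

lemma QHom.open_surj (hf : QHom f) (V : Set X) (hV : IsOpen V) :
    ∃ U : Set Y, IsOpen U ∧ f ⁻¹' U = V := hf.1.isOpen_iff.mp hV

lemma QHom.of_bijective (hf : Continuous f)
    (hq : Function.Bijective (fun U : TopologicalSpace.Opens Y =>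
      (⟨f ⁻¹' (U : Set Y), U.isOpen.preimage hf⟩ : TopologicalSpace.Opens X))) : QHom f := by
  refine QHom.of_bool (fun U₁ U₂ h₁ h₂ h => ?_) hf (fun V hV => ?_)
  · exact congrArg SetLike.coe (hq.1 (a₁ := ⟨U₁, h₁⟩) (a₂ := ⟨U₂, h₂⟩) (Opens.ext h))
  · obtain ⟨U, hU⟩ := hq.2 ⟨V, hV⟩
    exact ⟨U, U.isOpen, congrArg SetLike.coe hU⟩

lemma QHom.bijective (h : QHom f) (hf : Continuous f) :
    Function.Bijective (fun U : TopologicalSpace.Opens Y =>
      (⟨f ⁻¹' (U : Set Y), U.isOpen.preimage hf⟩ : TopologicalSpace.Opens X)) := by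
  constructor
  · intro U V hUV
    exact Opens.ext (h.open_inj _ _ U.isOpen V.isOpen (congrArg SetLike.coe hUV))
  · intro V
    obtain ⟨U, hU, hUV⟩ := h.open_surj V V.isOpen
    exact ⟨⟨U, hU⟩, Opens.ext hUV⟩

lemma QHom.restrict (hf : QHom f) {S : Set Y} (hS : LQC S) : QHom (S.restrictPreimage f) := by
  refine ⟨hf.1.restrictPreimage S, fun Z hZ hne => ?_⟩
  obtain ⟨Z₀, hZ₀, rfl⟩ := (IsInducing.subtypeVal.isLocallyClosed_iff).mp hZ
  obtain ⟨⟨y, hyS⟩, hy⟩ := hne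
  obtain ⟨z, ⟨hzS, hzZ⟩, x, rfl⟩ := hf.2.lqc (hS.inter (LQC.of_lc hZ₀)) ⟨y, hyS, hy⟩
  exact ⟨⟨f x, hzS⟩, hzZ, ⟨x, hzS⟩, rfl⟩

lemma QHom.isCompact_preimage_iff (hf : QHom f) {S : Set Y} (hS : LQC S) :
    IsCompact (f ⁻¹' S) ↔ IsCompact S := by
  constructor
  · intro h
    refine isCompact_of_finite_subcover fun {ι} U hU hSU => ?_
    obtain ⟨t, ht⟩ := h.elim_finite_subcover (fun i => f ⁻¹' U i)
      (fun i => (hU i).preimage hf.continuous) (fun x hx => by simpa using hSU hx)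
    refine ⟨t, hf.subset_of hS (LQC.of_lc ?_) (by simpa using ht)⟩
    exact (isOpen_biUnion fun i _ => hU i).isLocallyClosed
  · intro h
    refine isCompact_of_finite_subcover fun {ι} V hV hSV => ?_
    choose U hU hUV using fun i => hf.open_surj (V i) (hV i)
    have hsub : S ⊆ ⋃ i, U i := by
      refine hf.subset_of hS (LQC.of_lc (isOpen_iUnion hU).isLocallyClosed) ?_
      simpa [hUV] using hSV
    obtain ⟨t, ht⟩ := h.elim_finite_subcover U hU hsub
    refine ⟨t, ?_⟩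
    have := preimage_mono (f := f) ht
    simpa [hUV] using this

lemma QHom.noetherian_iff (hf : QHom f) {S : Set Y} (hS : LQC S) :
    NoetherianSpace ↥S ↔ NoetherianSpace ↥(f ⁻¹' S) := by
  have key : ∀ {W : Type u} [TopologicalSpace W] (A : Set W),
      NoetherianSpace ↥A ↔ ∀ U : Set W, IsOpen U → IsCompact (A ∩ U) := by
    intro W _ A
    rw [noetherianSpace_iff_opens]
    constructor
    · intro h U hU
      have := (h ⟨Subtype.val ⁻¹' U, hU.preimage continuous_subtype_val⟩).image continuous_subtype_val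
      simpa [inter_comm] using this
    · rintro h ⟨V, hV⟩
      obtain ⟨U, hU, rfl⟩ := isOpen_induced_iff.mp hV
      rw [IsInducing.subtypeVal.isCompact_iff]
      simpa [inter_comm] using h U hU
  have keyY : NoetherianSpace ↥S ↔ ∀ U : Set Y, IsOpen U → IsCompact (S ∩ U) := by
    rw [noetherianSpace_iff_opens]
    constructor
    · intro h U hU
      have := (h ⟨Subtype.val ⁻¹' U, hU.preimage continuous_subtype_val⟩).image continuous_subtype_val
      simpa [inter_comm] using this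
    · rintro h ⟨V, hV⟩
      obtain ⟨U, hU, rfl⟩ := isOpen_induced_iff.mp hV
      rw [IsInducing.subtypeVal.isCompact_iff]
      simpa [inter_comm] using h U hU
  rw [keyY, key]
  constructor
  · intro h V hV
    obtain ⟨U, hU, rfl⟩ := hf.open_surj V hV
    rw [← preimage_inter, hf.isCompact_preimage_iff (hS.inter (LQC.of_lc hU.isLocallyClosed))]
    exact h U hU
  · intro h U hU
    rw [← hf.isCompact_preimage_iff (hS.inter (LQC.of_lc hU.isLocallyClosed)), preimage_inter]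
    exact h _ (hU.preimage hf.continuous)

lemma QHom.retrocompact_iff (hf : QHom f) {S : Set Y} (hS : LQC S) :
    IsRetrocompact (f ⁻¹' S) ↔ IsRetrocompact S := by
  constructor
  · intro h U hUc hU
    rw [← hf.isCompact_preimage_iff (hS.inter (LQC.of_lc hU.isLocallyClosed)), preimage_inter]
    exact h ((hf.isCompact_preimage_iff (LQC.of_lc hU.isLocallyClosed)).mpr hUc)
      (hU.preimage hf.continuous)
  · intro h V hVc hV
    obtain ⟨U, hU, rfl⟩ := hf.open_surj V hV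
    rw [← preimage_inter, hf.isCompact_preimage_iff (hS.inter (LQC.of_lc hU.isLocallyClosed))]
    exact h ((hf.isCompact_preimage_iff (LQC.of_lc hU.isLocallyClosed)).mp hVc) hU

lemma QHom.qc_surj (hf : QHom f) {W : Set X} (hW : QC W) : ∃ Z : Set Y, QC Z ∧ f ⁻¹' Z = W := by
  refine QC.induction (p := fun C => ∃ Z : Set Y, QC Z ∧ f ⁻¹' Z = C) ⟨∅, QC.empty, by simp⟩ ?_ hW
  rintro C D _ hD ⟨Z, hZ, rfl⟩
  obtain ⟨E, hE, rfl⟩ := hf.1.isLocallyClosed_iff.mp hD
  exact ⟨E ∪ Z, (QC.of_lc hE).union hZ, preimage_union⟩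

lemma QHom.constr_preimage (hf : QHom f) {Z : Set Y} (hZ : IsConstructible Z) :
    IsConstructible (f ⁻¹' Z) :=
  hZ.preimage hf.continuous fun _ hU hU' =>
    (hf.retrocompact_iff (LQC.of_lc hU.isLocallyClosed)).mpr hU'

lemma QHom.constr_surj (hf : QHom f) {W : Set X} (hW : IsConstructible W) :
    ∃ Z : Set Y, IsConstructible Z ∧ f ⁻¹' Z = W := by
  induction hW using IsConstructible.empty_union_induction with
  | open_retrocompact V hV hV' =>
    obtain ⟨U, hU, rfl⟩ := hf.open_surj V hV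
    exact ⟨U, ((hf.retrocompact_iff (LQC.of_lc hU.isLocallyClosed)).mp hV').isConstructible hU, rfl⟩
  | union s hs t ht hs' ht' =>
    obtain ⟨A, hA, rfl⟩ := hs'
    obtain ⟨B, hB, rfl⟩ := ht'
    exact ⟨A ∪ B, hA.union hB, preimage_union⟩
  | compl s hs hs' =>
    obtain ⟨A, hA, rfl⟩ := hs'
    exact ⟨Aᶜ, hA.compl, preimage_compl⟩

lemma QHom.lqc_surj (hf : QHom f) {W : Set X} (hW : LQC W) :
    ∃ Z : Set Y, LQC Z ∧ f ⁻¹' Z = W := by
  choose V hV hxV hVW using hW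
  choose U hU hUV using fun x => hf.open_surj (V x) (hV x)
  choose Q hQ hQW using fun x => hf.qc_surj (hVW x)
  have hQU : ∀ x, Q x ⊆ U x := fun x =>
    hf.subset_of (hQ x).lqc (LQC.of_lc (hU x).isLocallyClosed)
      (by rw [hQW, hUV]; exact inter_subset_left)
  have hag : ∀ x y, Q y ∩ U x = Q x ∩ U y := fun x y => by
    refine hf.inj ((hQ y).inter_lc (hU x).isLocallyClosed).lqc
      ((hQ x).inter_lc (hU y).isLocallyClosed).lqc ?_
    simp only [preimage_inter, hQW, hUV]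
    ext; simp only [mem_inter_iff]; tauto
  have hpre : f ⁻¹' (⋃ x, Q x) = W := by
    rw [preimage_iUnion]
    ext z
    simp only [mem_iUnion, hQW, mem_inter_iff]
    exact ⟨fun ⟨_, _, h⟩ => h, fun h => ⟨z, hxV z, h⟩⟩
  have hcov : (⋃ x, U x) = univ := by
    refine hf.open_inj _ _ (isOpen_iUnion hU) isOpen_univ ?_
    rw [preimage_iUnion, preimage_univ]
    exact eq_univ_of_forall fun z => mem_iUnion.mpr ⟨z, by rw [hUV]; exact hxV z⟩
  refine ⟨⋃ x, Q x, fun y => ?_, hpre⟩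
  obtain ⟨x, hx⟩ := mem_iUnion.mp (hcov ▸ mem_univ y : y ∈ ⋃ x, U x)
  refine ⟨U x, hU x, hx, ?_⟩
  have : U x ∩ (⋃ x, Q x) = Q x := by
    refine Subset.antisymm ?_ (subset_inter (hQU x) (subset_iUnion Q x))
    rintro z ⟨hz, hz'⟩
    obtain ⟨x', hx'⟩ := mem_iUnion.mp hz'
    exact ((Set.ext_iff.mp (hag x x') z).mp ⟨hx', hz⟩).1
  rw [this]
  exact hQ x

lemma QHom.locConstr_preimage (hf : QHom f) {Z : Set Y} (hZ : IsLocallyConstructible Z) :
    IsLocallyConstructible (f ⁻¹' Z) := by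
  intro x
  obtain ⟨U, hxU, hU, hUZ⟩ := hZ (f x)
  exact ⟨f ⁻¹' U, hf.continuous.continuousAt.preimage_mem_nhds hxU, hU.preimage hf.continuous,
    (hf.restrict (LQC.of_lc hU.isLocallyClosed)).constr_preimage hUZ⟩

lemma QHom.locConstr_surj (hf : QHom f) {W : Set X} (hW : IsLocallyConstructible W) :
    ∃ Z : Set Y, IsLocallyConstructible Z ∧ f ⁻¹' Z = W := by
  obtain ⟨Z, hZ, rfl⟩ := hf.lqc_surj (LQC.of_isLocallyConstructible hW)
  refine ⟨Z, fun y => ?_, rfl⟩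
  choose V hxV hV hVW using hW
  choose U hU hUV using fun x => hf.open_surj (V x) (hV x)
  have hcov : (⋃ x, U x) = univ := by
    refine hf.open_inj _ _ (isOpen_iUnion hU) isOpen_univ ?_
    rw [preimage_iUnion, preimage_univ]
    exact eq_univ_of_forall fun z => mem_iUnion.mpr ⟨z, by rw [hUV]; exact mem_of_mem_nhds (hxV z)⟩
  obtain ⟨x, hx⟩ := mem_iUnion.mp (hcov ▸ mem_univ y : y ∈ ⋃ x, U x)
  have hr := hf.restrict (LQC.of_lc (hU x).isLocallyClosed)
  have hc := hVW x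
  rw [← hUV x] at hc
  obtain ⟨C, hC, hCe⟩ := hr.constr_surj hc
  refine ⟨U x, (hU x).mem_nhds hx, hU x, ?_⟩
  have : C = Subtype.val ⁻¹' Z := hr.inj (QC.of_isConstructible hC).lqc
    (hZ.preimage continuous_subtype_val) hCe
  rw [← this]
  exact hC

end Groth.Agent.QHomeo
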