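import Groth.Prelude.Def_EGA43
import Mathlib.AlgebraicGeometry.PullbackCarrier
import Mathlib.AlgebraicGeometry.Morphisms.UniversallyClosed
import Mathlib.AlgebraicGeometry.Morphisms.ClosedImmersion
import Mathlib.Topology.LocallyFinite

/-!
Openness at a point and universal openness at a point.
-/

set_option autoImplicit false

open CategoryTheory Limits AlgebraicGeometry Topology Set EGA43

namespace Groth.Agent.QHomeo

universe u

section Top

variable {α β γ : Type*} [TopologicalSpace α] [TopologicalSpace β] [TopologicalSpace γ]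

lemma openAt_comp {f : α → β} {g : β → γ} {x : α} (hf : IsOpenAt f x) (hg : IsOpenAt g (f x)) :
    IsOpenAt (g ∘ f) x := fun U hU => by
  rw [image_comp]
  exact hg _ (hf U hU)

lemma openAt_of_comp {f : α → β} {g : β → γ} {x : α} (hf : Continuous f)
    (h : IsOpenAt (g ∘ f) x) : IsOpenAt g (f x) := fun U hU => by
  refine Filter.mem_of_superset (h _ (hf.continuousAt.preimage_mem_nhds hU)) ?_
  rw [image_comp]
  exact image_mono (image_preimage_subset f U)

lemma openAt_restrictPreimage {f : α → β} {x : α} (h : IsOpenAt f x) (S : Set β) (hx : f x ∈ S) :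
    IsOpenAt (S.restrictPreimage f) ⟨x, hx⟩ := fun U hU => by
  obtain ⟨W, hW, hWU⟩ := (mem_nhds_subtype _ _ _).mp hU
  refine (mem_nhds_subtype _ _ _).mpr ⟨f '' W, h W hW, ?_⟩
  rintro ⟨y, hy⟩ ⟨z, hz, rfl : f z = y⟩
  exact ⟨⟨z, hy⟩, hWU hz, rfl⟩

lemma openAt_of_locallyFinite {ι : Type*} {f : α → β} {x : α} (Y : ι → Set β)
    (hY : LocallyFinite Y) (hcl : ∀ i, IsClosed (Y i)) (hcov : ⋃ i, Y i = univ)
    (h : ∀ i, ∀ hi : f x ∈ Y i, IsOpenAt ((Y i).restrictPreimage f) ⟨x, hi⟩) :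
    IsOpenAt f x := by
  intro U hU
  have H : ∀ i, ∃ V ∈ 𝓝 (f x), V ∩ Y i ⊆ f '' U := by
    intro i
    by_cases hi : f x ∈ Y i
    · obtain ⟨V, hV, hVU⟩ := (mem_nhds_subtype _ _ _).mp
        (h i hi (Subtype.val ⁻¹' U) (continuous_subtype_val.continuousAt.preimage_mem_nhds hU))
      refine ⟨V, hV, fun y hy => ?_⟩
      obtain ⟨⟨z, hz⟩, hzU, hze⟩ := hVU (show (⟨y, hy.2⟩ : Y i) ∈ Subtype.val ⁻¹' V from hy.1)
      exact ⟨z, hzU, congrArg Subtype.val hze⟩
    · exact ⟨(Y i)ᶜ, (hcl i).isOpen_compl.mem_nhds hi, by simp⟩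
  choose V hV hVU using H
  obtain ⟨T, hT, hfin⟩ := hY (f x)
  refine Filter.mem_of_superset
    (Filter.inter_mem hT ((Filter.biInter_mem hfin).mpr fun i _ => hV i)) fun y hy => ?_
  obtain ⟨i, hi⟩ := mem_iUnion.mp (hcov ▸ mem_univ y : y ∈ ⋃ i, Y i)
  exact hVU i ⟨mem_iInter₂.mp hy.2 i ⟨y, hi, hy.1⟩, hi⟩

lemma isClosed_setOf_openAt (f : α → β) (y : β) :
    IsClosed {x : ↥(f ⁻¹' {y}) | IsOpenAt f x.1} := by
  rw [← isOpen_compl_iff, isOpen_iff_forall_mem_open]
  rintro ⟨x, hx⟩ hnot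
  simp only [mem_compl_iff, mem_ofPred_eq, IsOpenAt, not_forall] at hnot
  obtain ⟨U, hU, hnot⟩ := hnot
  obtain ⟨V, hVU, hV, hxV⟩ := mem_nhds_iff.mp hU
  refine ⟨Subtype.val ⁻¹' V, ?_, hV.preimage continuous_subtype_val, hxV⟩
  rintro ⟨z, hz⟩ hzV hopen
  apply hnot
  have := Filter.mem_of_superset (hopen V (hV.mem_nhds hzV)) (image_mono hVU)
  simp only [mem_preimage, mem_singleton_iff] at hx hz
  rwa [hz, ← hx] at this

end Top

variable {X Y Z W : Scheme.{u}}

/-- Openness at a point transfers along an isomorphism of the source. -/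
lemma openAt_iso_comp (e : W ≅ X) (f : X ⟶ Y) (w : W) (h : IsOpenAt f.base (e.hom.base w)) :
    IsOpenAt (e.hom ≫ f).base w := by
  rw [Scheme.Hom.comp_base, TopCat.coe_comp]
  exact openAt_comp (fun U hU => e.hom.isOpenEmbedding.isOpenMap.image_mem_nhds hU) h

lemma univOpenAt_openAt {f : X ⟶ Y} {x : X} (h : IsUnivOpenAt f x) {P Y' : Scheme.{u}}
    {p : P ⟶ X} {q : P ⟶ Y'} {g : Y' ⟶ Y} (sq : IsPullback p q f g) (x' : P) (hx' : p.base x' = x) :
    IsOpenAt q.base x' := by
  have h1 : (pullback.fst f g).base (sq.isoPullback.hom.base x') = x := by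
    rw [← hx', ← Scheme.Hom.comp_apply, IsPullback.isoPullback_hom_fst]
  have := openAt_iso_comp sq.isoPullback (pullback.snd f g) x' (h Y' g _ h1)
  rwa [IsPullback.isoPullback_hom_snd] at this

lemma univOpenAt_of_isPullback {f : X ⟶ Y} {x : X} (h : IsUnivOpenAt f x) {P Y' : Scheme.{u}}
    {p : P ⟶ X} {q : P ⟶ Y'} {g : Y' ⟶ Y} (sq : IsPullback p q f g) (x' : P) (hx' : p.base x' = x) :
    IsUnivOpenAt q x' := by
  intro Y'' g' x'' hx''
  refine univOpenAt_openAt h ((IsPullback.of_hasPullback q g').paste_horiz sq) x'' ?_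
  rw [Scheme.Hom.comp_apply, hx'', hx']

lemma isPullback_comp_lift (f : X ⟶ Y) (g : Y ⟶ Z) {Z' : Scheme.{u}} (h : Z' ⟶ Z) :
    IsPullback (pullback.fst (f ≫ g) h)
      (pullback.lift (pullback.fst (f ≫ g) h ≫ f) (pullback.snd (f ≫ g) h)
        (by rw [Category.assoc, pullback.condition]))
      f (pullback.fst g h) := by
  refine IsPullback.of_bot ?_ (pullback.lift_fst _ _ _).symm (IsPullback.of_hasPullback g h)
  rw [pullback.lift_snd]
  exact IsPullback.of_hasPullback (f ≫ g) h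

lemma univOpenAt_comp {f : X ⟶ Y} {g : Y ⟶ Z} {x : X} (hf : IsUnivOpenAt f x)
    (hg : IsUnivOpenAt g (f.base x)) : IsUnivOpenAt (f ≫ g) x := by
  intro Z' h x' hx'
  set l := pullback.lift (pullback.fst (f ≫ g) h ≫ f) (pullback.snd (f ≫ g) h)
        (by rw [Category.assoc, pullback.condition]) with hl
  have h1 := univOpenAt_openAt hf (isPullback_comp_lift f g h) x' hx'
  have h2 : IsOpenAt (pullback.snd g h).base (l.base x') := by
    refine hg _ _ _ ?_
    rw [← Scheme.Hom.comp_apply, hl, pullback.lift_fst, Scheme.Hom.comp_apply, hx']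
  have := openAt_comp h1 h2
  rwa [← TopCat.coe_comp, ← Scheme.Hom.comp_base, pullback.lift_snd] at this

lemma univOpenAt_of_comp {f : X ⟶ Y} {g : Y ⟶ Z} {x : X} (h : IsUnivOpenAt (f ≫ g) x) :
    IsUnivOpenAt g (f.base x) := by
  intro Z' t y' hy'
  obtain ⟨z, hz₁, hz₂⟩ := Scheme.Pullback.exists_preimage_pullback (f := f) (g := pullback.fst g t)
    x y' hy'.symm
  let e := (isPullback_comp_lift f g t).isoPullback
  have hp : (pullback.fst (f ≫ g) t).base (e.inv.base z) = x := by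
    rw [← Scheme.Hom.comp_apply, IsPullback.isoPullback_inv_fst, hz₁]
  have hq : (pullback.lift (pullback.fst (f ≫ g) t ≫ f) (pullback.snd (f ≫ g) t)
        (by rw [Category.assoc, pullback.condition]) : _ ⟶ pullback g t).base (e.inv.base z) = y' := by
    rw [← Scheme.Hom.comp_apply, IsPullback.isoPullback_inv_snd, hz₂]
  have := h Z' t _ hp
  rw [← pullback.lift_snd (pullback.fst (f ≫ g) t ≫ f) (pullback.snd (f ≫ g) t)
    (by rw [Category.assoc, pullback.condition] : _ ≫ g = _ ≫ t), Scheme.Hom.comp_base,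
    TopCat.coe_comp] at this
  have := openAt_of_comp (Scheme.Hom.continuous _) this
  rwa [hq] at this

lemma openAt_of_closed_surjective {Y₁ P : Scheme.{u}} (v : Y₁ ⟶ Y) (hv : IsClosedMap v.base)
    [Surjective v] (f : X ⟶ Y) {p : P ⟶ X} {q : P ⟶ Y₁} (sq : IsPullback p q f v) (x : X)
    (h : ∀ x₁ : P, p.base x₁ = x → IsOpenAt q.base x₁) : IsOpenAt f.base x := by
  intro U hU
  by_contra hn
  have hy : f.base x ∈ closure (f.base '' U)ᶜ := by
    rwa [closure_compl, mem_compl_iff, mem_interior_iff_mem_nhds]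
  have hsub : closure (f.base '' U)ᶜ ⊆ v.base '' closure (v.base ⁻¹' (f.base '' U)ᶜ) := by
    refine (hv _ isClosed_closure).closure_subset_iff.mpr fun y hy => ?_
    obtain ⟨y₁, rfl⟩ := v.surjective y
    exact ⟨y₁, subset_closure hy, rfl⟩
  obtain ⟨y₁, hy₁, hy₁v⟩ := hsub hy
  obtain ⟨z, hz₁, hz₂⟩ := Scheme.Pullback.exists_preimage_pullback (f := f) (g := v) x y₁ hy₁v.symm
  set x₁ := sq.isoPullback.inv.base z
  have hp : p.base x₁ = x := by
    rw [← Scheme.Hom.comp_apply, IsPullback.isoPullback_inv_fst, hz₁]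
  have hq : q.base x₁ = y₁ := by
    rw [← Scheme.Hom.comp_apply, IsPullback.isoPullback_inv_snd, hz₂]
  have hN := h x₁ hp (p.base ⁻¹' U) (p.continuous.continuousAt.preimage_mem_nhds (by rwa [hp]))
  rw [hq] at hN
  obtain ⟨w, hwN, hwB⟩ := mem_closure_iff_nhds.mp hy₁ _ hN
  obtain ⟨a, ha, rfl⟩ := hwN
  refine hwB ⟨p.base a, ha, ?_⟩
  rw [← Scheme.Hom.comp_apply, sq.w, Scheme.Hom.comp_apply]

lemma univOpenAt_of_univClosed_surjective {Y₁ : Scheme.{u}} (v : Y₁ ⟶ Y) [UniversallyClosed v]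
    [Surjective v] (f : X ⟶ Y) (x : X)
    (h : ∀ x₁ : ↥(pullback f v), (pullback.fst f v).base x₁ = x →
      IsUnivOpenAt (pullback.snd f v) x₁) : IsUnivOpenAt f x := by
  intro Y' g x' hx'
  let v' := pullback.fst g v
  have bigsq : IsPullback (pullback.fst (pullback.snd f g) v' ≫ pullback.fst f g)
      (pullback.snd (pullback.snd f g) v') f (v' ≫ g) :=
    (IsPullback.of_hasPullback (pullback.snd f g) v').paste_horiz (IsPullback.of_hasPullback f g)
  refine openAt_of_closed_surjective v' (Scheme.Hom.isClosedMap _) _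
    (IsPullback.of_hasPullback (pullback.snd f g) v') x' fun x₁ hx₁ => ?_
  have hw : (pullback.fst (pullback.snd f g) v' ≫ pullback.fst f g) ≫ f =
      (pullback.snd (pullback.snd f g) v' ≫ pullback.snd g v) ≫ v := by
    rw [bigsq.w, Category.assoc, pullback.condition]
  have sq2 : IsPullback (pullback.lift _ _ hw) (pullback.snd (pullback.snd f g) v')
      (pullback.snd f v) (pullback.snd g v) := by
    refine IsPullback.of_right ?_ (pullback.lift_snd _ _ _) (IsPullback.of_hasPullback f v)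
    rw [pullback.lift_fst, ← pullback.condition]
    exact bigsq
  refine univOpenAt_openAt (h _ ?_) sq2 x₁ rfl
  rw [← Scheme.Hom.comp_apply, pullback.lift_fst, Scheme.Hom.comp_apply, hx₁, hx']

lemma univOpenAt_of_finite_closed_cover {ι : Type*} [Finite ι] (T : ι → Scheme.{u})
    (g : ∀ i, T i ⟶ Y) [∀ i, IsClosedImmersion (g i)]
    (hcov : ⋃ i, Set.range (g i).base = Set.univ) (f : X ⟶ Y) (x : X)
    (h : ∀ i, ∀ x' : ↥(pullback f (g i)), (pullback.fst f (g i)).base x' = x →
      IsUnivOpenAt (pullback.snd f (g i)) x') : IsUnivOpenAt f x := by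
  intro Y' t x' hx'
  set q := pullback.snd f t
  refine openAt_of_locallyFinite (fun i => range (pullback.fst t (g i)).base)
    (locallyFinite_of_finite _) (fun i => (pullback.fst t (g i)).isClosedEmbedding.isClosed_range)
    ?_ fun i hi => ?_
  · refine eq_univ_of_forall fun y => mem_iUnion.mpr ?_
    obtain ⟨i, hi⟩ := mem_iUnion.mp (hcov ▸ mem_univ (t.base y) : t.base y ∈ ⋃ i, range (g i).base)
    exact ⟨i, by rwa [Scheme.Pullback.range_fst]⟩
  obtain ⟨y₁, hy₁⟩ := hi
  obtain ⟨w, hw₁, hw₂⟩ := Scheme.Pullback.exists_preimage_pullback (f := q) (g := pullback.fst t (g i))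
    x' y₁ hy₁.symm
  have bigsq : IsPullback (pullback.fst q (pullback.fst t (g i)) ≫ pullback.fst f t)
      (pullback.snd q (pullback.fst t (g i))) f (pullback.fst t (g i) ≫ t) :=
    (IsPullback.of_hasPullback q (pullback.fst t (g i))).paste_horiz (IsPullback.of_hasPullback f t)
  have hw : (pullback.fst q (pullback.fst t (g i)) ≫ pullback.fst f t) ≫ f =
      (pullback.snd q (pullback.fst t (g i)) ≫ pullback.snd t (g i)) ≫ g i := by
    rw [bigsq.w, Category.assoc, pullback.condition]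
  have sq2 : IsPullback (pullback.lift _ _ hw) (pullback.snd q (pullback.fst t (g i)))
      (pullback.snd f (g i)) (pullback.snd t (g i)) := by
    refine IsPullback.of_right ?_ (pullback.lift_snd _ _ _) (IsPullback.of_hasPullback f (g i))
    rw [pullback.lift_fst, ← pullback.condition]
    exact bigsq
  have hop : IsOpenAt (pullback.snd q (pullback.fst t (g i))).base w := by
    refine univOpenAt_openAt (h i _ ?_) sq2 w rfl
    rw [← Scheme.Hom.comp_apply, pullback.lift_fst, Scheme.Hom.comp_apply, hw₁, hx']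
  intro U hU
  obtain ⟨V, hV, hVU⟩ := (mem_nhds_subtype _ _ _).mp hU
  have hN := hop ((pullback.fst q (pullback.fst t (g i))).base ⁻¹' V)
    ((Scheme.Hom.continuous _).continuousAt.preimage_mem_nhds (by rwa [hw₁]))
  rw [hw₂, (pullback.fst t (g i)).isClosedEmbedding.isInducing.nhds_eq_comap] at hN
  obtain ⟨M, hM, hMsub⟩ := Filter.mem_comap.mp hN
  rw [hy₁] at hM
  refine (mem_nhds_subtype _ _ _).mpr ⟨M, hM, ?_⟩
  rintro ⟨_, z, rfl⟩ hzM
  obtain ⟨a, ha, haz⟩ := hMsub (show z ∈ _ from hzM)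
  have e : q.base ((pullback.fst q (pullback.fst t (g i))).base a) =
      (pullback.fst t (g i)).base z := by
    rw [← Scheme.Hom.comp_apply, pullback.condition, Scheme.Hom.comp_apply, haz]
  refine ⟨⟨(pullback.fst q (pullback.fst t (g i))).base a, ?_⟩, hVU ha, Subtype.ext e⟩
  rw [mem_preimage, e]
  exact mem_range_self z

end Groth.Agent.QHomeo
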